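import Groth.Agent.Lib.AlgSpace.OpenSub
import Groth.Agent.Lib.AlgSpace.OpenSubExists
import Groth.Agent.Lib.AlgSpDecent.Core
import Groth.Prelude.Def_AlgSp4

/-!
# Open subspaces of a base cut out by a closed subset of a space over it
-/

set_option autoImplicit false
set_option linter.style.haveILetI false

universe u

open CategoryTheory CategoryTheory.Limits AlgebraicGeometry

namespace Groth.Agent.Lib.AlgSpWhere

open AlgSp (Sp yon RepWith IsAlgSpace Points Space)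
open Groth.Agent.Lib.AlgSpace

variable {S : Scheme.{u}}

/-- An open subset of a space is the set where a morphism factors through an open subspace. -/
theorem exists_open_factor {Z : Space S} {O : Set (Points Z.obj)} (hO : IsOpen O) :
    ∃ (W : Space S) (w : W ⟶ Z), RepWith @IsOpenImmersion w.hom ∧
      Set.range (Points.map w.hom) = O ∧
      ∀ (Z' : Space S) (g : Z' ⟶ Z), (∃ k : Z' ⟶ W, k ≫ w = g) ↔ Set.range (Points.map g.hom) ⊆ O := by
  obtain ⟨F, j, hF, hj, hr⟩ := exists_open_subspace Z.property hO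
  refine ⟨⟨F, hF⟩, ObjectProperty.homMk j, hj, hr, fun Z' g ↦ ?_⟩
  rw [← hr, ← exists_lift_iff_range_subset hj g.hom]
  refine ⟨fun ⟨k, hk⟩ ↦ ⟨k.hom, by rw [← hk]; rfl⟩, fun ⟨k, hk⟩ ↦ ⟨ObjectProperty.homMk k, ?_⟩⟩
  exact ObjectProperty.hom_ext _ hk

/-- Avoiding the image of a set is the same as landing in its complement after base change. -/
theorem range_subset_compl_image_iff {X Z Z' P : Sp S} {p : X ⟶ Z} {g : Z' ⟶ Z} {pX : P ⟶ X}
    {pr : P ⟶ Z'} (sq : IsPullback pX pr p g) (B : Set (Points X)) :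
    Set.range (Points.map g) ⊆ (Points.map p '' B)ᶜ ↔ Set.range (Points.map pX) ⊆ Bᶜ := by
  constructor
  · rintro h _ ⟨z, rfl⟩ hz
    refine h ⟨Points.map pr z, rfl⟩ ⟨_, hz, ?_⟩
    rw [← Points.map_comp, sq.w, Points.map_comp]
  · rintro h _ ⟨z', rfl⟩ ⟨x, hx, hxz⟩
    obtain ⟨z, hz, -⟩ := AlgSpDecent.Core.exists_point_of_isPullback sq x z' hxz
    exact h ⟨z, hz⟩ hx

/-- A property of base changes decided by the range of the projection is decided by the base. -/
theorem forall_bc_iff {X Y Z Z' : Space S} (f : X ⟶ Y) (p : X ⟶ Z) (q : Y ⟶ Z) (hc : f ≫ q = p)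
    (g : Z' ⟶ Z) (Φ : ∀ {X' Y' : Space S}, (X' ⟶ Y') → Prop) (R : Prop)
    (h : ∀ (X' Y' : Space S) (gY : Y' ⟶ Y) (q' : Y' ⟶ Z') (gX : X' ⟶ X) (f' : X' ⟶ Y'),
      IsPullback gY.hom q'.hom q.hom g.hom → IsPullback gX.hom f'.hom f.hom gY.hom →
      IsPullback gX.hom (f'.hom ≫ q'.hom) p.hom g.hom → (Φ f' ↔ R)) :
    (∀ (Y' : Space S) (gY : Y' ⟶ Y) (q' : Y' ⟶ Z'),
      IsPullback gY.hom q'.hom q.hom g.hom →
      ∀ (X' : Space S) (gX : X' ⟶ X) (f' : X' ⟶ Y'),
        IsPullback gX.hom f'.hom f.hom gY.hom → Φ f') ↔ R := by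
  have hp : ∀ {X' Y' : Space S} {gY : Y' ⟶ Y} {q' : Y' ⟶ Z'} {gX : X' ⟶ X} {f' : X' ⟶ Y'},
      IsPullback gY.hom q'.hom q.hom g.hom → IsPullback gX.hom f'.hom f.hom gY.hom →
      IsPullback gX.hom (f'.hom ≫ q'.hom) p.hom g.hom := fun sq sq' ↦ by
    rw [← hc]
    exact sq'.paste_vert sq
  refine ⟨fun hall ↦ ?_, fun hR Y' gY q' sq X' gX f' sq' ↦
    (h X' Y' gY q' gX f' sq sq' (hp sq sq')).2 hR⟩
  have sY := IsPullback.of_hasPullback q.hom g.hom
  let Y' : Space S := ⟨_, isAlgSpace_of_isPullback sY Z.property.diag Y.property Z'.property⟩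
  have sX := IsPullback.of_hasPullback f.hom (pullback.fst q.hom g.hom)
  let X' : Space S := ⟨_, isAlgSpace_of_isPullback sX Y.property.diag X.property Y'.property⟩
  let gY : Y' ⟶ Y := ObjectProperty.homMk (pullback.fst q.hom g.hom)
  let q' : Y' ⟶ Z' := ObjectProperty.homMk (pullback.snd q.hom g.hom)
  let gX : X' ⟶ X := ObjectProperty.homMk (pullback.fst f.hom (pullback.fst q.hom g.hom))
  let f' : X' ⟶ Y' := ObjectProperty.homMk (pullback.snd f.hom (pullback.fst q.hom g.hom))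
  exact (h X' Y' gY q' gX f' sY sX (hp (gY := gY) (q' := q') (gX := gX) (f' := f') sY sX)).1
    (hall Y' gY q' sY X' gX f' sX)

/-- The open subspace of the base over which a closed bad set is avoided. -/
theorem exists_where {X Z : Space S} (p : X ⟶ Z) (hp : AlgSp.IsClosedMor p.hom)
    {O : Set (Points X.obj)} (hO : IsOpen O) :
    ∃ (W : Space S) (w : W ⟶ Z), RepWith @IsOpenImmersion w.hom ∧
      ∀ (Z' : Space S) (g : Z' ⟶ Z) (P : Sp S) (pX : P ⟶ X.obj) (pr : P ⟶ Z'.obj),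
        IsPullback pX pr p.hom g.hom →
        ((∃ k : Z' ⟶ W, k ≫ w = g) ↔ Set.range (Points.map pX) ⊆ O) := by
  have hc : IsClosed (Points.map p.hom '' Oᶜ) := hp _ hO.isClosed_compl
  obtain ⟨W, w, hw, -, hfac⟩ := exists_open_factor hc.isOpen_compl
  refine ⟨W, w, hw, fun Z' g P pX pr sq ↦ (hfac Z' g).trans ?_⟩
  rw [range_subset_compl_image_iff sq, compl_compl]

end Groth.Agent.Lib.AlgSpWhere
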