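import Groth.Agent.Lib.AlgSpWhere.UnramSpace
import Groth.Agent.Lib.AlgSpMor.Cancel

/-!
# Open images over the flat and the unramified locus
-/

set_option autoImplicit false
set_option linter.style.haveILetI false

universe u

open CategoryTheory CategoryTheory.Limits AlgebraicGeometry

namespace Groth.Agent.Lib.AlgSpWhere

open AlgSp (Sp yon RepWith IsAlgSpace LocP LocPAt Points IsFlatAtMor)
open Groth.Agent.Lib.AlgSpace Groth.Agent.Lib.AlgSpMor Groth.Agent.Lib.SourceDescent.Scheme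

variable {S : Scheme.{u}}

/-- An lfp morphism is open on the set where it is flat. -/
theorem isOpen_image_of_flatAt {X Y : Sp S} (hX : IsAlgSpace X) (hY : IsAlgSpace Y) {f : X ⟶ Y}
    (hfp : LocP @LocallyOfFinitePresentation f) {O : Set (Points X)} (hO : IsOpen O)
    (h : ∀ x ∈ O, IsFlatAtMor f x) : IsOpen (Points.map f '' O) := by
  obtain ⟨U, V, a, b, k, ha, has, hb, -, w⟩ := LocP.exists_chart hX hY f
  haveI : LocallyOfFinitePresentation k.left := hfp a b k ha hb w
  let O' : U.left.Opens := ⟨Points.ofPt a ⁻¹' O, hO.preimage (Points.continuous_ofPt a)⟩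
  haveI : Flat (O'.ι ≫ k.left) := Flat.of_stalkMap _ fun z ↦
    (Unram.AtPrime.stalkMap_restrict_iff RingHom.Flat.respectsIso k.left O' z.1 z.2).2
      (h _ z.2 a b k z.1 ha hb w rfl)
  have he : Points.map f '' O = Points.ofPt b '' Set.range (O'.ι ≫ k.left) := by
    refine Set.Subset.antisymm ?_ ?_
    · rintro _ ⟨x, hx, rfl⟩
      obtain ⟨u, rfl⟩ := surjective_ofPt has x
      refine ⟨k.left u, ⟨⟨u, hx⟩, rfl⟩, ?_⟩
      rw [Points.map_ofPt, w, ofPt_yon_map_comp]
    · rintro _ ⟨_, ⟨⟨u, hu⟩, rfl⟩, rfl⟩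
      refine ⟨_, hu, ?_⟩
      rw [Points.map_ofPt, w, ofPt_yon_map_comp]
      rfl
  rw [he]
  exact isOpenMap_ofPt hb _ (O'.ι ≫ k.left).isOpenMap.isOpen_range

/-- The diagonal is open on the set where a morphism is unramified. -/
theorem isOpen_image_diag {X Y P : Sp S} (hX : IsAlgSpace X) (hY : IsAlgSpace Y) {f : X ⟶ Y}
    (hf : LocP @LocallyOfFiniteType f) {pr0 pr1 : P ⟶ X} (sq : IsPullback pr0 pr1 f f)
    {δ : X ⟶ P} (h0 : δ ≫ pr0 = 𝟙 X) (h1 : δ ≫ pr1 = 𝟙 X) {O : Set (Points X)} (hO : IsOpen O)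
    (h : ∀ x ∈ O, LocPAt (fun h u => UnramAt h u) f x) : IsOpen (Points.map δ '' O) := by
  obtain ⟨U, V, a, b, k, ha, has, hb, -, w⟩ := LocP.exists_chart hX hY f
  haveI : LocallyOfFiniteType k.left := hf a b k ha hb w
  obtain ⟨T, t₁, t₂, sqT⟩ := exists_isPullback_yon hY.diag (a ≫ f) b
  haveI : Etale t₁.left := repWith_property hb sqT.flip
  have sqQ := IsPullback.of_hasPullback t₂ k
  let p : Limits.pullback t₂ k ⟶ U := pullback.fst t₂ k ≫ t₁
  let q : Limits.pullback t₂ k ⟶ U := pullback.snd t₂ k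
  have sqUU : IsPullback ((yon S).map p) ((yon S).map q) (a ≫ f) (a ≫ f) := by
    have := (isPullback_yon sqQ).paste_horiz sqT
    rw [← Functor.map_comp] at this
    rwa [← w] at this
  haveI : MorphismProperty.IsStableUnderComposition (@Etale : MorphismProperty Scheme.{u}) :=
    ⟨fun f g (_ : Etale f) (_ : Etale g) ↦ inferInstanceAs (Etale (f ≫ g))⟩
  let m := sq.lift ((yon S).map p ≫ a) ((yon S).map q ≫ a)
    (by rw [Category.assoc, Category.assoc]; exact sqUU.w)
  have hm : RepWith @Etale m := Flat55.FlatLocusBC.repWith_lift sq sqUU ha ha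
  obtain ⟨s, hs⟩ := (yon S).map_surjective (sqUU.lift (𝟙 _) (𝟙 _) rfl)
  have hsp : s ≫ p = 𝟙 U := (yon S).map_injective (by
    rw [Functor.map_comp, hs, sqUU.lift_fst, CategoryTheory.Functor.map_id])
  have hsq : s ≫ q = 𝟙 U := (yon S).map_injective (by
    rw [Functor.map_comp, hs, sqUU.lift_snd, CategoryTheory.Functor.map_id])
  have hsm : (yon S).map s ≫ m = a ≫ δ := sq.hom_ext
    (by rw [Category.assoc, sq.lift_fst, ← Category.assoc, ← Functor.map_comp, hsp,
      CategoryTheory.Functor.map_id, Category.id_comp, Category.assoc, h0, Category.comp_id])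
    (by rw [Category.assoc, sq.lift_snd, ← Category.assoc, ← Functor.map_comp, hsq,
      CategoryTheory.Functor.map_id, Category.id_comp, Category.assoc, h1, Category.comp_id])
  let O' : U.left.Opens := ⟨Points.ofPt a ⁻¹' O, hO.preimage (Points.continuous_ofPt a)⟩
  let Qo : (Limits.pullback t₂ k).left.Opens := p.left ⁻¹ᵁ O' ⊓ q.left ⁻¹ᵁ O'
  haveI : LocallyOfFiniteType (pullback.fst t₂ k).left :=
    MorphismProperty.of_isPullback (P := @LocallyOfFiniteType)
      (sqQ.map (Over.forget S)).flip ‹_›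
  haveI : LocallyOfFiniteType p.left := by
    show LocallyOfFiniteType ((pullback.fst t₂ k).left ≫ t₁.left)
    infer_instance
  haveI : FormallyUnramified (Qo.ι ≫ p.left) :=
    (H47.UnramLocus.formallyUnramified_iff_stalk _).2 fun z ↦
      (Unram.AtPrime.stalkMap_restrict_iff RingHom.FormallyUnramified.respectsIso p.left Qo
        z.1 z.2).2 (unramAt_comp (pullback.fst t₂ k).left t₁.left z.1
          (H47.UnramLocus.stalkMap_bc k.left (f' := (pullback.fst t₂ k).left)
            (eX := (pullback.snd t₂ k).left) (b := t₂.left) (sqQ.map (Over.forget S)).flip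
            (h (Points.ofPt a (q.left z.1)) z.2.2 a b k (q.left z.1) ha hb w rfl))
          (FormallyUnramified.stalkMap t₁.left _))
  have hle : O' ≤ s.left ⁻¹ᵁ Qo := fun u hu ↦ by
    refine ⟨?_, ?_⟩
    · show p.left (s.left u) ∈ O'
      rw [← Scheme.Hom.comp_apply, ← Over.comp_left, hsp]
      exact hu
    · show q.left (s.left u) ∈ O'
      rw [← Scheme.Hom.comp_apply, ← Over.comp_left, hsq]
      exact hu
  let s' := s.left.resLE Qo O' hle
  have hs' : s' ≫ Qo.ι ≫ p.left = O'.ι := by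
    rw [Scheme.Hom.resLE_comp_ι_assoc s.left hle, ← Over.comp_left, hsp]
    exact Category.comp_id _
  haveI : Etale (s' ≫ Qo.ι ≫ p.left) := by rw [hs']; infer_instance
  haveI : Etale s' := Etale.of_comp s' (Qo.ι ≫ p.left)
  have he : Points.map δ '' O = Points.ofPt m '' Set.range (s' ≫ Qo.ι) := by
    refine Set.Subset.antisymm ?_ ?_
    · rintro _ ⟨x, hx, rfl⟩
      obtain ⟨u, rfl⟩ := surjective_ofPt has x
      refine ⟨s.left u, ⟨⟨u, hx⟩, ?_⟩, ?_⟩
      · rw [Scheme.Hom.resLE_comp_ι s.left hle]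
        rfl
      · rw [← ofPt_yon_map_comp, hsm, Points.map_ofPt]
    · rintro _ ⟨_, ⟨⟨u, hu⟩, rfl⟩, rfl⟩
      refine ⟨_, hu, ?_⟩
      rw [Scheme.Hom.resLE_comp_ι s.left hle]
      show _ = Points.ofPt m (s.left u)
      rw [← ofPt_yon_map_comp, hsm, Points.map_ofPt]
  rw [he]
  exact isOpenMap_ofPt hm _ (s' ≫ Qo.ι).isOpenMap.isOpen_range

end Groth.Agent.Lib.AlgSpWhere
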