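import Groth.Agent.Lib.AlgSpWhere.Basic
import Groth.Agent.Lib.AlgSpWhere.Open
import Groth.Agent.Lib.AlgSpMor.UnivInj

/-!
# Where a morphism becomes unramified and universally injective
-/

set_option autoImplicit false
set_option linter.style.haveILetI false

universe u

open CategoryTheory CategoryTheory.Limits AlgebraicGeometry

namespace Groth.Agent.Lib.AlgSpWhere

open AlgSp (Sp yon RepWith IsAlgSpace LocP LocPAt Points Space)
open Groth.Agent.Lib.AlgSpace Groth.Agent.Lib.AlgSpMor Groth.Agent.Lib.SourceDescent.Scheme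

variable {S : Scheme.{u}}

/-- The open subspace over which a morphism is unramified and universally injective. -/
theorem exists_where_unramified_univInjective {X Y Z : Space S} (f : X ⟶ Y) (p : X ⟶ Z)
    (q : Y ⟶ Z) (hc : f ≫ q = p) (hp1 : LocP @LocallyOfFiniteType p.hom)
    (hp2 : AlgSp.IsClosedMor p.hom)
    (hp3 : AlgSp.IsClosedMor (pullback.snd f.hom f.hom ≫ p.hom)) :
    ∃ (W : Space S) (w : W ⟶ Z), RepWith @IsOpenImmersion w.hom ∧
      ∀ (Z' : Space S) (g : Z' ⟶ Z), (∃ k : Z' ⟶ W, k ≫ w = g) ↔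
          ∀ (Y' : Space S) (gY : Y' ⟶ Y) (q' : Y' ⟶ Z'),
            IsPullback gY.hom q'.hom q.hom g.hom →
            ∀ (X' : Space S) (gX : X' ⟶ X) (f' : X' ⟶ Y'),
              IsPullback gX.hom f'.hom f.hom gY.hom →
                (LocP (@LocallyOfFiniteType ⊓ @FormallyUnramified) f'.hom ∧
                  AlgSp.IsUnivInjectiveMor f'.hom) := by
  have hf : LocP @LocallyOfFiniteType f.hom := by
    refine locP_lft_cancel X.property Y.property Z.property (g := q.hom) ?_
    rw [show f.hom ≫ q.hom = p.hom by rw [← hc]; rfl]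
    exact hp1
  obtain ⟨hopen, hbc⟩ := unramLocus X.property Y.property f.hom hf
  let O₁ := (Points.map p.hom '' {x | LocPAt (fun h u => UnramAt h u) f.hom x}ᶜ)ᶜ
  have hO₁ : IsOpen O₁ := (hp2 _ hopen.isClosed_compl).isOpen_compl
  have hXo : IsOpen (Points.map p.hom ⁻¹' O₁) := hO₁.preimage (Points.continuous_map p.hom)
  have hXu : ∀ x ∈ Points.map p.hom ⁻¹' O₁, LocPAt (fun h u => UnramAt h u) f.hom x :=
    fun x hx ↦ by_contra fun hn ↦ hx ⟨x, hn, rfl⟩
  let V := Points.map (pullback.diagonal f.hom) '' (Points.map p.hom ⁻¹' O₁)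
  have hV : IsOpen V := isOpen_image_diag X.property Y.property hf
    (IsPullback.of_hasPullback f.hom f.hom) (pullback.diagonal_fst f.hom)
    (pullback.diagonal_snd f.hom) hXo hXu
  have hO₂ : IsOpen (O₁ ∩ (Points.map (pullback.snd f.hom f.hom ≫ p.hom) '' Vᶜ)ᶜ) :=
    hO₁.inter (hp3 _ hV.isClosed_compl).isOpen_compl
  obtain ⟨W, w, hw, -, hW⟩ := exists_open_factor hO₂
  refine ⟨W, w, hw, fun Z' g ↦ Iff.symm ?_⟩
  refine forall_bc_iff f p q hc g (fun {X' Y'} f' ↦ LocP (@LocallyOfFiniteType ⊓ @FormallyUnramified)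
    f'.hom ∧ AlgSp.IsUnivInjectiveMor f'.hom) _ fun X' Y' gY q' gX f' sq sq' sqp ↦ ?_
  have h1 : LocP (@LocallyOfFiniteType ⊓ @FormallyUnramified) f'.hom ↔
      Set.range (Points.map g.hom) ⊆ O₁ := by
    rw [hbc X'.property Y'.property f'.hom gX.hom gY.hom sq', range_subset_compl_image_iff sqp,
      compl_compl]
  rw [hW Z' g, Set.subset_inter_iff, h1]
  refine and_congr_right fun hg ↦ ?_
  let μ := pullback.map f'.hom f'.hom f.hom f.hom gX.hom gX.hom gY.hom sq'.w.symm sq'.w.symm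
  have hμ₁ : μ ≫ pullback.fst f.hom f.hom = pullback.fst f'.hom f'.hom ≫ gX.hom :=
    pullback.lift_fst _ _ _
  have hμ₂ : μ ≫ pullback.snd f.hom f.hom = pullback.snd f'.hom f'.hom ≫ gX.hom :=
    pullback.lift_snd _ _ _
  have sqμ : IsPullback μ (pullback.snd f'.hom f'.hom) (pullback.snd f.hom f.hom) gX.hom := by
    have hA := (IsPullback.of_hasPullback f'.hom f'.hom).paste_horiz sq'
    rw [← sq'.w] at hA
    rw [← hμ₁] at hA
    exact IsPullback.of_right hA hμ₂ (IsPullback.of_hasPullback f.hom f.hom)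
  have sqZ := sqμ.paste_vert sqp
  have sqΔ := Sep.isPullback_diagonal_map sq'
  rw [range_subset_compl_image_iff sqZ, compl_compl]
  constructor
  · rintro hinj _ ⟨r', rfl⟩
    obtain ⟨x', rfl⟩ := UnivInj.surjective_diagonal_of_isUnivInjectiveMor hinj r'
    refine ⟨Points.map gX.hom x', ?_, ?_⟩
    · show Points.map p.hom _ ∈ O₁
      rw [← Points.map_comp, sqp.w, Points.map_comp]
      exact hg ⟨_, rfl⟩
    · rw [← Points.map_comp, sqΔ.w, Points.map_comp]
  · intro h
    refine UnivInj.isUnivInjectiveMor_of_surjective_diagonal fun r' ↦ ?_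
    obtain ⟨x, -, hx⟩ := h ⟨r', rfl⟩
    obtain ⟨x', -, hx'⟩ := exists_of_isPullback sqΔ x r' hx
    exact ⟨x', hx'⟩

end Groth.Agent.Lib.AlgSpWhere
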