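import Groth.Agent.H47.UnramLocus
import Mathlib.AlgebraicGeometry.Morphisms.Affine

/-!
# Unramified at a point commutes with arbitrary base change
-/

set_option autoImplicit false
set_option linter.style.haveILetI false
set_option backward.isDefEq.respectTransparency false

universe u

open CategoryTheory CategoryTheory.Limits AlgebraicGeometry TensorProduct

namespace Groth.Agent.Lib.AlgSpWhere

/-- A field extension preserves nontriviality of vector spaces. -/
theorem nontrivial_tensor (K L M : Type u) [Field K] [Field L] [Algebra K L] [AddCommGroup M]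
    [Module K M] [Nontrivial M] : Nontrivial (L ⊗[K] M) := by
  by_contra hn
  rw [not_nontrivial_iff_subsingleton] at hn
  exact not_subsingleton M (Module.FaithfullyFlat.lTensor_reflects_triviality K L M)

/-- Unramified at a prime descends along any base change. -/
theorem isUnramifiedAt_of_baseChange (R T S S' : Type u) [CommRing R] [CommRing T] [CommRing S]
    [CommRing S'] [Algebra R T] [Algebra R S] [Algebra R S'] [Algebra T S'] [Algebra S S']
    [IsScalarTower R T S'] [IsScalarTower R S S'] [Algebra.IsPushout R T S S']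
    [Algebra.FiniteType R S] (P : Ideal S') [P.IsPrime] (q : Ideal S) [q.IsPrime] [P.LiesOver q]
    (h : Algebra.IsUnramifiedAt T P) : Algebra.IsUnramifiedAt R q := by
  have h' : (⟨P, inferInstance⟩ : PrimeSpectrum S') ∈ Algebra.unramifiedLocus T S' := h
  rw [Algebra.unramifiedLocus_eq_compl_support, Set.mem_compl_iff] at h'
  show (⟨q, inferInstance⟩ : PrimeSpectrum S) ∈ Algebra.unramifiedLocus R S
  rw [Algebra.unramifiedLocus_eq_compl_support, Set.mem_compl_iff]
  intro hq
  apply h'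
  let ε := KaehlerDifferential.tensorKaehlerEquiv R T S S'
  haveI : Module.Finite S' (Ω[S'⁄T]) := Module.Finite.equiv ε
  rw [Module.mem_support_iff_nontrivial_residueField_tensorProduct] at hq ⊢
  let K := q.ResidueField
  let L := P.ResidueField
  let g : K →+* L := Ideal.ResidueField.map q P (algebraMap S S') (Ideal.LiesOver.over)
  letI : Algebra K L := g.toAlgebra
  haveI : IsScalarTower S K L := IsScalarTower.of_algebraMap_eq fun x ↦ by
    change _ = g (algebraMap S K x)
    rw [Ideal.ResidueField.map_algebraMap, ← IsScalarTower.algebraMap_apply S S' L]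
  haveI : Nontrivial (L ⊗[K] (K ⊗[S] Ω[S⁄R])) := nontrivial_tensor K L _
  exact ((TensorProduct.AlgebraTensorModule.congr (LinearEquiv.refl L L) ε.symm).trans
    ((TensorProduct.AlgebraTensorModule.cancelBaseChange S S' L L (Ω[S⁄R])).trans
      (TensorProduct.AlgebraTensorModule.cancelBaseChange S K L L (Ω[S⁄R])).symm)).toEquiv.nontrivial

/-- For affine schemes, unramified at a point descends along any base change. -/
theorem stalkMap_of_bc_affine {X Y X' Y' : Scheme.{u}} [IsAffine X] [IsAffine Y] [IsAffine Y']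
    {f : X ⟶ Y} [LocallyOfFiniteType f] {f' : X' ⟶ Y'} {eX : X' ⟶ X} {b : Y' ⟶ Y}
    (sq : IsPullback eX f' f b) (x' : X') (h : (f'.stalkMap x').hom.FormallyUnramified) :
    (f.stalkMap (eX x')).hom.FormallyUnramified := by
  haveI : IsAffine X' := .of_isPullback sq
  have hp := isPushout_appTop_of_isPullback sq
  algebraize [f.appTop.hom, b.appTop.hom, eX.appTop.hom, f'.appTop.hom,
    eX.appTop.hom.comp f.appTop.hom]
  haveI : IsScalarTower Γ(Y, ⊤) Γ(Y', ⊤) Γ(X', ⊤) := IsScalarTower.of_algebraMap_eq' (by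
    exact congrArg CommRingCat.Hom.hom hp.w)
  haveI : Algebra.IsPushout Γ(Y, ⊤) Γ(X, ⊤) Γ(Y', ⊤) Γ(X', ⊤) :=
    CommRingCat.isPushout_iff_isPushout.mp hp
  haveI : Algebra.IsPushout Γ(Y, ⊤) Γ(Y', ⊤) Γ(X, ⊤) Γ(X', ⊤) := Algebra.IsPushout.symm ‹_›
  haveI : Algebra.FiniteType Γ(Y, ⊤) Γ(X, ⊤) :=
    RingHom.finiteType_algebraMap.mp ((HasRingHomProperty.iff_of_isAffine
      (P := @LocallyOfFiniteType)).mp ‹LocallyOfFiniteType f›)
  have hX' := isAffineOpen_top X'
  have hX := isAffineOpen_top X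
  let P := (hX'.primeIdealOf ⟨x', trivial⟩).asIdeal
  let q := (hX.primeIdealOf ⟨eX x', trivial⟩).asIdeal
  have happ : ∀ {A B : Scheme.{u}} (g : A ⟶ B) (e : ⊤ ≤ g ⁻¹ᵁ ⊤), g.appLE ⊤ ⊤ e = g.appTop :=
    fun g e ↦ by simp [Scheme.Hom.appLE]
  haveI : P.LiesOver q := ⟨by
    have := congr($(IsAffineOpen.comap_primeIdealOf_appLE (f := eX) (x := x') ⊤ hX ⊤ hX' le_top
      (trivial : x' ∈ (⊤ : X'.Opens))).1)
    rw [happ] at this
    exact this.symm⟩
  have keyf : ∀ φ, φ = f.appLE ⊤ ⊤ le_top → letI := φ.hom.toAlgebra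
      ((f.stalkMap (eX x')).hom.FormallyUnramified ↔ Algebra.IsUnramifiedAt Γ(Y, ⊤) q) := by
    rintro _ rfl
    exact H47.UnramLocus.stalkMap_iff_isUnramifiedAt f (isAffineOpen_top Y) hX le_top
      (trivial : eX x' ∈ (⊤ : X.Opens))
  have keyf' : ∀ φ, φ = f'.appLE ⊤ ⊤ le_top → letI := φ.hom.toAlgebra
      ((f'.stalkMap x').hom.FormallyUnramified ↔ Algebra.IsUnramifiedAt Γ(Y', ⊤) P) := by
    rintro _ rfl
    exact H47.UnramLocus.stalkMap_iff_isUnramifiedAt f' (isAffineOpen_top Y') hX' le_top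
      (trivial : x' ∈ (⊤ : X'.Opens))
  refine (keyf f.appTop (happ f _).symm).2 ?_
  exact isUnramifiedAt_of_baseChange Γ(Y, ⊤) Γ(Y', ⊤) Γ(X, ⊤) Γ(X', ⊤) P q
    ((keyf' f'.appTop (happ f' _).symm).1 h)

/-- Unramified at a point descends along any base change. -/
theorem stalkMap_bc_iff {X Y X' Y' : Scheme.{u}} {f : X ⟶ Y} [LocallyOfFiniteType f]
    {f' : X' ⟶ Y'} {eX : X' ⟶ X} {b : Y' ⟶ Y} (sq : IsPullback eX f' f b) (x' : X') :
    (f'.stalkMap x').hom.FormallyUnramified ↔ (f.stalkMap (eX x')).hom.FormallyUnramified := by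
  refine ⟨fun h ↦ ?_, H47.UnramLocus.stalkMap_bc f sq⟩
  obtain ⟨U, hU, hxU, -⟩ :=
    exists_isAffineOpen_mem_and_subset (X := Y) (x := f (eX x')) (U := ⊤) trivial
  obtain ⟨V, hV, hxV, hVU⟩ :=
    exists_isAffineOpen_mem_and_subset (X := X) (x := eX x') (U := f ⁻¹ᵁ U) hxU
  obtain ⟨U', hU', hxU', hU'U⟩ :=
    exists_isAffineOpen_mem_and_subset (X := Y') (x := f' x') (U := b ⁻¹ᵁ U) (by
      show b (f' x') ∈ U
      rw [← Scheme.Hom.comp_apply, ← sq.w, Scheme.Hom.comp_apply]
      exact hxU)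
  haveI : IsAffine V := hV
  haveI : IsAffine U := hU
  haveI : IsAffine U' := hU'
  let fV := f.resLE U V hVU
  let bU := b.resLE U U' hU'U
  have sqP := IsPullback.of_hasPullback fV bU
  let j : pullback fV bU ⟶ X' := sq.lift (pullback.fst _ _ ≫ V.ι) (pullback.snd _ _ ≫ U'.ι) (by
    rw [Category.assoc, Category.assoc, ← Scheme.Hom.resLE_comp_ι f hVU,
      ← Scheme.Hom.resLE_comp_ι b hU'U, ← Category.assoc, ← Category.assoc, sqP.w])
  haveI : IsOpenImmersion j := by
    have hj : j ≫ sq.isoPullback.hom = pullback.map fV bU f b V.ι U'.ι U.ι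
        (Scheme.Hom.resLE_comp_ι f hVU) (Scheme.Hom.resLE_comp_ι b hU'U) := by
      apply pullback.hom_ext <;> simp [j]
    rw [← MorphismProperty.cancel_right_of_respectsIso @IsOpenImmersion j sq.isoPullback.hom, hj]
    infer_instance
  obtain ⟨z, hz⟩ : ∃ z, j z = x' := by
    have hmem : sq.isoPullback.hom x' ∈ Set.range (pullback.map fV bU f b V.ι U'.ι U.ι
        (Scheme.Hom.resLE_comp_ι f hVU) (Scheme.Hom.resLE_comp_ι b hU'U)) := by
      rw [Scheme.Pullback.range_map]
      refine ⟨?_, ?_⟩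
      · show pullback.fst f b (sq.isoPullback.hom x') ∈ Set.range V.ι
        rw [← Scheme.Hom.comp_apply, sq.isoPullback_hom_fst, V.range_ι]
        exact hxV
      · show pullback.snd f b (sq.isoPullback.hom x') ∈ Set.range U'.ι
        rw [← Scheme.Hom.comp_apply, sq.isoPullback_hom_snd, U'.range_ι]
        exact hxU'
    obtain ⟨z, hz⟩ := hmem
    refine ⟨z, ?_⟩
    apply sq.isoPullback.hom.homeomorph.injective
    show sq.isoPullback.hom (j z) = sq.isoPullback.hom x'
    rw [← hz, ← Scheme.Hom.comp_apply]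
    refine congrArg (fun g : pullback fV bU ⟶ pullback f b ↦ g z) ?_
    apply pullback.hom_ext <;> simp [j]
  subst hz
  have hfV : LocallyOfFiniteType fV := inferInstance
  have h1 : ((pullback.snd fV bU).stalkMap z).hom.FormallyUnramified := by
    have h2 : ((pullback.snd fV bU ≫ U'.ι).stalkMap z).hom.FormallyUnramified := by
      rw [← (sq.lift_snd _ _ _ : j ≫ f' = pullback.snd fV bU ≫ U'.ι), Scheme.Hom.stalkMap_comp]
      exact (RingHom.RespectsIso.cancel_right_isIso RingHom.FormallyUnramified.respectsIso _ _).2 h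
    rw [Scheme.Hom.stalkMap_comp] at h2
    exact (RingHom.RespectsIso.cancel_left_isIso RingHom.FormallyUnramified.respectsIso _ _).1 h2
  have h2 := stalkMap_of_bc_affine sqP z h1
  have h3 : ((V.ι ≫ f).stalkMap (pullback.fst fV bU z)).hom.FormallyUnramified := by
    rw [← Scheme.Hom.resLE_comp_ι f hVU, Scheme.Hom.stalkMap_comp]
    exact (RingHom.RespectsIso.cancel_left_isIso RingHom.FormallyUnramified.respectsIso _ _).2 h2
  rw [Scheme.Hom.stalkMap_comp] at h3
  have h4 := (RingHom.RespectsIso.cancel_right_isIso RingHom.FormallyUnramified.respectsIso _ _).1 h3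
  have e : eX (j z) = V.ι (pullback.fst fV bU z) := by
    rw [← Scheme.Hom.comp_apply, sq.lift_fst, Scheme.Hom.comp_apply]
  rw [e]
  exact h4

end Groth.Agent.Lib.AlgSpWhere
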