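import Groth.Agent.Lib.AlgSpWhere.UnramScheme
import Groth.Agent.Lib.Flat55.FlatLocusBC
import Groth.Agent.Lib.AlgSpMor.LocP
import Groth.Agent.Lib.AlgSpMor.Cancel
import Groth.Prelude.Def_AlgSpMor5

/-!
# The unramified locus of a morphism of algebraic spaces
-/

set_option autoImplicit false
set_option linter.style.haveILetI false

universe u

open CategoryTheory CategoryTheory.Limits AlgebraicGeometry

namespace Groth.Agent.Lib.AlgSpWhere

open AlgSp (Sp yon RepWith IsAlgSpace LocP LocPAt Points)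
open Groth.Agent.Lib.AlgSpace Groth.Agent.Lib.AlgSpMor Groth.Agent.Lib.SourceDescent.Scheme

variable {S : Scheme.{u}}

/-- Unramified at a point, for morphisms of schemes. -/
def UnramAt {U V : Scheme.{u}} (h : U ⟶ V) (u : ↥U) : Prop :=
  (h.stalkMap u).hom.FormallyUnramified

theorem unramAt_comp {A B C : Scheme.{u}} (f : A ⟶ B) (g : B ⟶ C) (x : A)
    (hf : UnramAt f x) (hg : UnramAt g (f x)) : UnramAt (f ≫ g) x := by
  show ((f ≫ g).stalkMap x).hom.FormallyUnramified
  rw [Scheme.Hom.stalkMap_comp]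
  exact RingHom.FormallyUnramified.stableUnderComposition (g.stalkMap (f x)).hom
    (f.stalkMap x).hom hg hf

theorem unramAt_of_comp {A B C : Scheme.{u}} (f : A ⟶ B) (g : B ⟶ C) (x : A)
    (h : UnramAt (f ≫ g) x) : UnramAt f x := by
  have h' : ((f ≫ g).stalkMap x).hom.FormallyUnramified := h
  rw [Scheme.Hom.stalkMap_comp] at h'
  exact RingHom.FormallyUnramified.of_comp (f := (g.stalkMap (f x)).hom) (g := (f.stalkMap x).hom) h'

theorem unramAt_descends {A B C : Scheme.{u}} (q : A ⟶ B) (h : B ⟶ C) [Etale q]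
    [LocallyOfFiniteType h] (z : A) (hz : UnramAt (q ≫ h) z) : UnramAt h (q z) := by
  obtain ⟨O, hzO, hO⟩ := (Unram.AtPrime.exists_formallyUnramified_nhd_iff (q ≫ h) z).2 hz
  let V : B.Opens := ⟨q '' (O : Set A), q.isOpenMap _ O.2⟩
  have hle : O ≤ q ⁻¹ᵁ V := fun a ha ↦ ⟨a, ha, rfl⟩
  let q' := q.resLE V O hle
  haveI : Surjective q' := ⟨fun ⟨v, hv⟩ ↦ by
    obtain ⟨a, ha, rfl⟩ := hv
    refine ⟨⟨a, ha⟩, Subtype.ext ?_⟩
    exact (Scheme.Hom.comp_apply q' V.ι _).symm.trans
      ((congrArg (fun g ↦ g (⟨a, ha⟩ : O)) (Scheme.Hom.resLE_comp_ι q hle)).trans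
        (Scheme.Hom.comp_apply O.ι q _))⟩
  haveI : Etale q' := by
    have he : Etale (q' ≫ V.ι) := by
      rw [Scheme.Hom.resLE_comp_ι q hle]
      exact inferInstance
    exact MorphismProperty.of_postcomp (W := @Etale) (W' := @IsOpenImmersion) q' V.ι
      inferInstance he
  refine Unram.AtPrime.formallyUnramified_stalkMap_of_nhd h (q z) ⟨V, ⟨z, hzO, rfl⟩, ?_⟩
  refine formallyUnramified.descends q' (V.ι ≫ h) inferInstance inferInstance ?_
  rw [← Category.assoc, Scheme.Hom.resLE_comp_ι q hle, Category.assoc]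
  exact hO

/-- Unramified at a point can be tested in one chart diagram. -/
theorem unramAt_of_chart {X Y : Sp S} (hX : IsAlgSpace X) (hY : IsAlgSpace Y) {f : X ⟶ Y}
    (hf : LocP @LocallyOfFiniteType f) {U V : Over S} {a : (yon S).obj U ⟶ X}
    {b : (yon S).obj V ⟶ Y} {h : U ⟶ V} (ha : RepWith @Etale a) (hb : RepWith @Etale b)
    (w : a ≫ f = (yon S).map h ≫ b) (u : ↥U.left) (hu : UnramAt h.left u) :
    LocPAt (fun h u => UnramAt h u) f (Points.ofPt a u) := by
  intro U' V' a' b' h' u' ha' hb' w' he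
  obtain ⟨U'', p, q, sq⟩ := exists_isPullback_yon hX.diag a a'
  obtain ⟨W, r, r', sqW⟩ := exists_isPullback_yon hY.diag b b'
  have : Etale p.left := repWith_property ha' sq.flip
  have : Etale q.left := repWith_property ha sq
  have : Etale r.left := repWith_property hb' sqW.flip
  have : Etale r'.left := repWith_property hb sqW
  haveI : LocallyOfFiniteType h'.left := hf a' b' h' ha' hb' w'
  obtain ⟨k, hk⟩ := (yon S).map_surjective (sqW.lift ((yon S).map (p ≫ h)) ((yon S).map (q ≫ h'))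
    (by rw [Functor.map_comp, Functor.map_comp, Category.assoc, Category.assoc, ← w, ← w',
      reassoc_of% sq.w]))
  have k1 : k ≫ r = p ≫ h := (yon S).map_injective (by rw [Functor.map_comp, hk, sqW.lift_fst])
  have k2 : k ≫ r' = q ≫ h' := (yon S).map_injective (by rw [Functor.map_comp, hk, sqW.lift_snd])
  obtain ⟨z, rfl, rfl⟩ := (ofPt_eq_ofPt_iff_of_isPullback sq u u').1 he.symm
  have h1 : UnramAt (k.left ≫ r.left) z := by
    rw [← Over.comp_left, k1, Over.comp_left]
    exact unramAt_comp _ _ z (FormallyUnramified.stalkMap p.left z) hu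
  have h2 : UnramAt (q.left ≫ h'.left) z := by
    rw [← Over.comp_left, ← k2, Over.comp_left]
    exact unramAt_comp _ _ z (unramAt_of_comp _ _ z h1) (FormallyUnramified.stalkMap r'.left _)
  exact unramAt_descends q.left h'.left z h2

/-- The unramified locus of a morphism locally of finite type is open, commutes with base change,
and is everything exactly when the morphism is unramified. -/
theorem unramLocus {X Y : Sp S} (hX : IsAlgSpace X) (hY : IsAlgSpace Y) (f : X ⟶ Y)
    (hf : LocP @LocallyOfFiniteType f) :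
    IsOpen {x : Points X | LocPAt (fun h u => UnramAt h u) f x} ∧
    ∀ {X' Y' : Sp S} (_ : IsAlgSpace X') (_ : IsAlgSpace Y') (f' : X' ⟶ Y') (pX : X' ⟶ X)
      (pY : Y' ⟶ Y), IsPullback pX f' f pY →
      (LocP (@LocallyOfFiniteType ⊓ @FormallyUnramified) f' ↔
        Set.range (Points.map pX) ⊆ {x : Points X | LocPAt (fun h u => UnramAt h u) f x}) := by
  obtain ⟨U, V, a, b, k, ha, has, hb, hbs, w⟩ := LocP.exists_chart hX hY f
  haveI : LocallyOfFiniteType k.left := hf a b k ha hb w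
  have chart : ∀ u : U.left,
      LocPAt (fun h u => UnramAt h u) f (Points.ofPt a u) ↔ UnramAt k.left u :=
    fun u ↦ ⟨fun hu ↦ hu a b k u ha hb w rfl, unramAt_of_chart hX hY hf ha hb w u⟩
  refine ⟨?_, ?_⟩
  · rw [isOpen_iff_chart ha has]
    convert H47.UnramLocus.isOpen_unramified k.left using 1
    exact Set.ext chart
  intro X' Y' hX' hY' f' pX pY sq
  obtain ⟨W₀, c₀, hc₀, hc₀s⟩ := hY'.atlas
  obtain ⟨T, t₁, t₂, sqT⟩ := exists_isPullback_yon hY.diag b (c₀ ≫ pY)
  haveI : Etale t₂.left := repWith_property hb sqT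
  let Q := Limits.pullback k t₁
  let u₁ : Q ⟶ U := pullback.fst k t₁
  let u₂ : Q ⟶ T := pullback.snd k t₁
  have sqQ := IsPullback.of_hasPullback k t₁
  have sqUW : IsPullback ((yon S).map u₁) ((yon S).map (u₂ ≫ t₂)) (a ≫ f) (c₀ ≫ pY) := by
    rw [w, Functor.map_comp]
    exact (isPullback_yon sqQ).paste_vert sqT
  let a' := sq.lift ((yon S).map u₁ ≫ a) ((yon S).map (u₂ ≫ t₂) ≫ c₀)
    (by rw [Category.assoc, Category.assoc]; exact sqUW.w)
  have ha' : RepWith @Etale a' := Flat55.FlatLocusBC.repWith_lift sq sqUW ha hc₀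
  have has' : RepWith @Surjective a' := Flat55.FlatLocusBC.repWith_lift sq sqUW has hc₀s
  have hd : a' ≫ f' = (yon S).map (u₂ ≫ t₂) ≫ c₀ := sq.lift_snd _ _ _
  have hf' : LocP @LocallyOfFiniteType f' :=
    LocP.locP_of_isPullback locallyOfFiniteType hX hY hY' sq hf
  haveI : LocallyOfFiniteType (u₂ ≫ t₂).left := hf' a' c₀ _ ha' hc₀ hd
  have hpt : ∀ z, Points.map pX (Points.ofPt a' z) = Points.ofPt a (u₁.left z) := fun z ↦ by
    rw [Points.map_ofPt, sq.lift_fst, ofPt_yon_map_comp]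
  have hiff : ∀ z, UnramAt (u₂ ≫ t₂).left z ↔ UnramAt k.left (u₁.left z) := fun z ↦ by
    rw [Over.comp_left]
    refine Iff.trans ⟨unramAt_of_comp _ _ z, fun h ↦ unramAt_comp _ _ z h
      (FormallyUnramified.stalkMap t₂.left _)⟩ ?_
    exact stalkMap_bc_iff (f := k.left) (f' := u₂.left) (eX := u₁.left) (b := t₁.left)
      (sqQ.map (Over.forget S)) z
  constructor
  · intro h _ ⟨x', hx'⟩
    subst hx'
    obtain ⟨z, rfl⟩ := surjective_ofPt has' x'
    rw [hpt]
    refine (chart _).2 ((hiff z).1 ?_)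
    haveI : FormallyUnramified (u₂ ≫ t₂).left := (h a' c₀ _ ha' hc₀ hd).2
    exact FormallyUnramified.stalkMap _ z
  · intro h
    refine LocP.locP_of_chart LocP.unramified hX'.diag hY'.diag ha' has' hc₀ hd
      ⟨‹LocallyOfFiniteType (u₂ ≫ t₂).left›,
        (H47.UnramLocus.formallyUnramified_iff_stalk _).2 fun z ↦ (hiff z).2 ?_⟩
    rw [← chart, ← hpt]
    exact h ⟨_, rfl⟩

end Groth.Agent.Lib.AlgSpWhere

namespace Groth.Agent.Lib.AlgSpWhere

open AlgSp (Sp yon IsAlgSpace LocP)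
open Groth.Agent.Lib.AlgSpace Groth.Agent.Lib.AlgSpMor Groth.Agent.Lib.SourceDescent.Scheme

variable {S : Scheme.{u}}

/-- A morphism is locally of finite type if a composite with it is. -/
theorem locP_lft_cancel {X Y Z : Sp S} (hX : IsAlgSpace X) (hY : IsAlgSpace Y) (hZ : IsAlgSpace Z)
    {f : X ⟶ Y} {g : Y ⟶ Z} (h : LocP @LocallyOfFiniteType (f ≫ g)) :
    LocP @LocallyOfFiniteType f := by
  obtain ⟨W, V, b, c, h₂, hb, hbs, hc', -, w₂⟩ := LocP.exists_chart hY hZ g
  obtain ⟨U, a, h₁, ha, has, w₁⟩ := LocP.exists_chart_over hX hY f hb hbs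
  refine LocP.locP_of_chart locallyOfFiniteType hX.diag hY.diag ha has hb w₁ ?_
  haveI : LocallyOfFiniteType (h₁.left ≫ h₂.left) := h a c (h₁ ≫ h₂) ha hc'
    (by rw [reassoc_of% w₁, w₂, Functor.map_comp, Category.assoc])
  exact locallyOfFiniteType_of_comp h₁.left h₂.left

end Groth.Agent.Lib.AlgSpWhere
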